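import Cfsg.Agent.H315.TwF.Eig
import Cfsg.Agent.H927.LDTwF4

/-!
# The characters of the elementary abelian group of order `25` of `²F₄(2)` (helper315)
-/

set_option autoImplicit false
set_option linter.unusedSectionVars false

namespace Cfsg.Agent.H315.TwF

open Cfsg.Agent.H927.LDTwF4 (Rels)

variable {k V G : Type*} [Field k] [AddCommGroup V] [Module k V] [Group G]

/-- a simple group acts trivially if one of its elements does -/
theorem triv {S : Subgroup G} (hS : IsSimpleGroup S) {ρ : G →* Module.End k V} {x : G} (hx : x ∈ S) (hx1 : x ≠ 1)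
    {M : Submodule k V} (hM : ∀ y ∈ S, ∀ v ∈ M, ρ y v ∈ M) (h : ∀ v ∈ M, ρ x v = v) {a : G} (ha : a ∈ S) :
    ∀ v ∈ M, ρ a v = v := by
  let N : Subgroup S :=
    { carrier := {y | ∀ v ∈ M, ρ (y : G) v = v}
      one_mem' := fun v _ => rone ρ v
      mul_mem' := by
        intro y z hy hz v hv
        show ρ ((y : G) * z) v = v
        rw [rmul, hz v hv, hy v hv]
      inv_mem' := by
        intro y hy v hv
        show ρ ((y : G)⁻¹) v = v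
        conv_lhs => rw [← hy v hv]
        exact rinv ρ _ v }
  have hN : N.Normal := by
    constructor
    intro y hy g v hv
    show ρ ((g : G) * y * (g : G)⁻¹) v = v
    rw [rmul, rmul, hy _ (hM _ (inv_mem g.2) v hv), rinv']
  rcases hS.eq_bot_or_eq_top_of_normal N hN with h1 | h1
  · exfalso
    apply hx1
    have h2 : (⟨x, hx⟩ : S) ∈ N := h
    rw [h1, Subgroup.mem_bot] at h2
    exact congrArg Subtype.val h2
  · have h2 : (⟨a, ha⟩ : S) ∈ N := by rw [h1]; trivial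
    exact h2

section

variable {A B ga gb c : G} (h : Rels A B ga gb c)
include h

theorem A5 : A ^ 5 = 1 := by rw [← h.A5]; simp only [pow_succ, pow_zero, one_mul]
theorem B5 : B ^ 5 = 1 := by rw [← h.B5]; simp only [pow_succ, pow_zero, one_mul]

theorem A_ga : A * ga⁻¹ = ga⁻¹ * A ^ 3 := by
  have e : A ^ 3 = A * A * A := by simp only [pow_succ, pow_zero, one_mul]
  calc A * ga⁻¹ = ga⁻¹ * (ga * A) * ga⁻¹ := by group
    _ = _ := by rw [h.gaA, e]; group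

theorem B_gb : B * gb⁻¹ = gb⁻¹ * B ^ 3 := by
  have e : B ^ 3 = B * B * B := by simp only [pow_succ, pow_zero, one_mul]
  calc B * gb⁻¹ = gb⁻¹ * (gb * B) * gb⁻¹ := by group
    _ = _ := by rw [h.gbB, e]; group

theorem B_ga : B * ga⁻¹ = ga⁻¹ * B := by
  calc B * ga⁻¹ = ga⁻¹ * (ga * B) * ga⁻¹ := by group
    _ = _ := by rw [h.gaB]; group

theorem A_gb : A * gb⁻¹ = gb⁻¹ * A := by
  calc A * gb⁻¹ = gb⁻¹ * (gb * A) * gb⁻¹ := by group
    _ = _ := by rw [h.gbA]; group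

theorem A_c : A * c⁻¹ = c⁻¹ * (A * A * B) := by
  calc A * c⁻¹ = c⁻¹ * (c * A) * c⁻¹ := by group
    _ = _ := by rw [h.cA]; group

theorem B_c : B * c⁻¹ = c⁻¹ * (A * B * B) := by
  calc B * c⁻¹ = c⁻¹ * (c * B) * c⁻¹ := by group
    _ = _ := by rw [h.cB]; group

variable {ρ : G →* Module.End k V}

/-- the action of `c` on the characters -/
theorem char_c {x y : k} (hv : ∃ v : V, v ≠ 0 ∧ ρ A v = x • v ∧ ρ B v = y • v) :
    ∃ v : V, v ≠ 0 ∧ ρ A v = (x ^ 2 * y) • v ∧ ρ B v = (x * y ^ 2) • v := by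
  obtain ⟨v, hv0, hxv, hyv⟩ := hv
  refine ⟨ρ c⁻¹ v, rne ρ _ hv0, ?_, ?_⟩
  · rw [← rmul, A_c h]
    simp only [rmul, hyv, hxv, map_smul, smul_smul]
    congr 1; ring
  · rw [← rmul, B_c h]
    simp only [rmul, hyv, hxv, map_smul, smul_smul]
    congr 1; ring

theorem char_a {x y : k} (hv : ∃ v : V, v ≠ 0 ∧ ρ A v = x • v ∧ ρ B v = y • v) (i : ℕ) :
    ∃ v : V, v ≠ 0 ∧ ρ A v = (x ^ 3 ^ i) • v ∧ ρ B v = y • v := by
  induction i with
  | zero => simpa using hv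
  | succ i ih =>
    obtain ⟨v, hv0, hxv, hyv⟩ := ih
    refine ⟨ρ ga⁻¹ v, rne ρ _ hv0, ?_, ?_⟩
    · rw [← rmul, A_ga h, rmul, rpow ρ hxv, map_smul, ← pow_mul, ← pow_succ]
    · rw [← rmul, B_ga h, rmul, hyv, map_smul]

theorem char_b {x y : k} (hv : ∃ v : V, v ≠ 0 ∧ ρ A v = x • v ∧ ρ B v = y • v) (i : ℕ) :
    ∃ v : V, v ≠ 0 ∧ ρ A v = x • v ∧ ρ B v = (y ^ 3 ^ i) • v := by
  induction i with
  | zero => simpa using hv
  | succ i ih =>
    obtain ⟨v, hv0, hxv, hyv⟩ := ih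
    refine ⟨ρ gb⁻¹ v, rne ρ _ hv0, ?_, ?_⟩
    · rw [← rmul, A_gb h, rmul, hxv, map_smul]
    · rw [← rmul, B_gb h, rmul, rpow ρ hyv, map_smul, ← pow_mul, ← pow_succ]

/-- **The characters.** -/
theorem chars [IsAlgClosed k] [FiniteDimensional k V] (h5 : (5 : k) ≠ 0) (hA : ρ A ≠ 1) :
    (∃ v : V, v ≠ 0 ∧ ∃ χ ψ : k, χ ≠ 1 ∧ ψ ≠ 1 ∧ ρ A v = χ • v ∧ ρ B v = ψ • v) ∧
    (∃ v : V, v ≠ 0 ∧ ∃ ψ : k, ψ ≠ 1 ∧ ρ A v = v ∧ ρ B v = ψ • v) ∧
    (∃ v : V, v ≠ 0 ∧ ∃ χ : k, χ ≠ 1 ∧ ρ A v = χ • v ∧ ρ B v = v) := by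
  -- an eigenvector
  obtain ⟨x, y, hx1, hv⟩ : ∃ x y : k, x ≠ 1 ∧ ∃ v : V, v ≠ 0 ∧ ρ A v = x • v ∧ ρ B v = y • v := by
    obtain ⟨x, hx1, u, -, hu0, hxu⟩ := exists_ne_one ρ (N := 5) (by exact_mod_cast h5) (A5 h) (M := ⊤)
      (fun _ _ => trivial) (fun hall => hA (by ext v; exact hall v trivial))
    have hinv : ∀ v ∈ (ρ A).eigenspace x, ρ B v ∈ (ρ A).eigenspace x := by
      intro v hv
      rw [Module.End.mem_eigenspace_iff] at hv ⊢
      rw [← rmul, h.AB, rmul, hv, map_smul]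
    have hne : Nontrivial ((ρ A).eigenspace x) := ⟨⟨⟨u, by rw [Module.End.mem_eigenspace_iff]; exact hxu⟩, 0,
      fun h => hu0 (congrArg Subtype.val h)⟩⟩
    obtain ⟨y, hy⟩ := Module.End.exists_eigenvalue ((ρ B).restrict hinv)
    obtain ⟨v, hv⟩ := hy.exists_hasEigenvector
    exact ⟨x, y, hx1, v, fun h => hv.2 (Subtype.ext h), Module.End.mem_eigenspace_iff.1 v.2,
      congrArg Subtype.val hv.apply_eq_smul⟩
  -- both nontrivial
  have hx5 : ∀ {x y : k}, (∃ v : V, v ≠ 0 ∧ ρ A v = x • v ∧ ρ B v = y • v) → x ^ 5 = 1 ∧ y ^ 5 = 1 := by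
    rintro x y ⟨v, hv0, hxv, hyv⟩
    exact ⟨eig_pow hv0 hxv (A5 h), eig_pow hv0 hyv (B5 h)⟩
  obtain ⟨x, y, hx1, hy1, hv⟩ : ∃ x y : k, x ≠ 1 ∧ y ≠ 1 ∧ ∃ v : V, v ≠ 0 ∧ ρ A v = x • v ∧ ρ B v = y • v := by
    by_cases hy : y = 1
    · subst hy
      refine ⟨x ^ 2, x, ?_, hx1, ?_⟩
      · intro h2
        apply hx1
        have hxx := (hx5 hv).1
        calc x = x ^ 5 * x := by rw [hxx, one_mul]
          _ = (x ^ 2) ^ 3 := by ring
          _ = 1 := by rw [h2, one_pow]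
      · have := char_c h hv
        rwa [mul_one, one_pow, mul_one] at this
    · exact ⟨x, y, hx1, hy, hv⟩
  obtain ⟨hx, hy⟩ := hx5 hv
  have hp : IsPrimitiveRoot x 5 := by
    have : Fact (Nat.Prime 5) := ⟨by norm_num⟩
    have := IsPrimitiveRoot.orderOf x
    rwa [orderOf_eq_prime hx hx1] at this
  obtain ⟨i, hi, rfl⟩ := hp.eq_pow_of_pow_eq_one hy
  have hi0 : i ≠ 0 := by
    rintro rfl
    exact hy1 (pow_zero x)
  have hne : ∀ j : ℕ, ¬ 5 ∣ j → x ^ j ≠ 1 := fun j hj h1 => hj ((hp.pow_eq_one_iff_dvd j).1 h1)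
  have hpw : ∀ e : ℕ, e % 5 ≠ 0 → ∃ j, x ^ (i * 3 ^ j) = x ^ e := by
    intro e he
    have key : ∀ i e : Fin 5, i ≠ 0 → e ≠ 0 → ∃ j : Fin 4, ((i : ℕ) * 3 ^ (j : ℕ)) % 5 = (e : ℕ) := by decide
    obtain ⟨j, hj⟩ := key ⟨i, hi⟩ ⟨e % 5, Nat.mod_lt _ (by norm_num)⟩ (fun h => hi0 (congrArg Fin.val h))
      (fun h => he (congrArg Fin.val h))
    refine ⟨j, ?_⟩
    rw [pow_mod hx (i * 3 ^ (j : ℕ)), pow_mod hx e]
    exact congrArg _ hj
  refine ⟨?_, ?_, ?_⟩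
  · obtain ⟨v, hv0, h1, h2⟩ := hv
    exact ⟨v, hv0, _, _, hx1, hy1, h1, h2⟩
  · obtain ⟨j, hj⟩ := hpw 3 (by norm_num)
    have h1 := char_b h hv j
    rw [← pow_mul, hj] at h1
    obtain ⟨v, hv0, h2, h3⟩ := char_c h h1
    refine ⟨v, hv0, x ^ 2, hne 2 (by norm_num), ?_, ?_⟩
    · rw [h2, ← pow_add, hx, one_smul]
    · rw [h3, ← pow_mul, mul_comm, ← pow_succ, pow_mod hx]
  · obtain ⟨j, hj⟩ := hpw 2 (by norm_num)
    have h1 := char_b h hv j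
    rw [← pow_mul, hj] at h1
    obtain ⟨v, hv0, h2, h3⟩ := char_c h h1
    refine ⟨v, hv0, x ^ 4, hne 4 (by norm_num), ?_, ?_⟩
    · rw [h2, ← pow_add]
    · rw [h3, ← pow_mul, mul_comm, ← pow_succ, pow_mod hx, show (2 * 2 + 1) % 5 = 0 by norm_num, pow_zero, one_smul]

end

end Cfsg.Agent.H315.TwF
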