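import Mathlib

/-!
# Two commuting subgroups with elements of order five and of prime order `r` (helper315)

`ρ : G → GL(V)` over an algebraically closed field, `S₁`, `S₂` commuting subgroups of `G`, `a i`, `x i ∈ S i` of order
`5`, `r`, `a i` conjugate to its cube and `x i` to its inverse in `S i`; `s : V → V` a `q`-semilinear map commuting with
`G`.  If sufficiently many characters of `⟨a 1, a 2⟩` occur then `6 t ≤ dim V`, `t` the order of `q` modulo `r`.
-/

set_option autoImplicit false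
set_option linter.unusedSectionVars false

namespace Cfsg.Agent.H315.TwF

variable {k V G : Type*} [Field k] [AddCommGroup V] [Module k V] [Group G]

theorem rmul (ρ : G →* Module.End k V) (g g' : G) (v : V) : ρ (g * g') v = ρ g (ρ g' v) := by rw [map_mul]; rfl

theorem rone (ρ : G →* Module.End k V) (v : V) : ρ 1 v = v := by rw [map_one]; rfl

theorem rinv (ρ : G →* Module.End k V) (g : G) (v : V) : ρ g⁻¹ (ρ g v) = v := by
  rw [← rmul, inv_mul_cancel, rone]

theorem rinv' (ρ : G →* Module.End k V) (g : G) (v : V) : ρ g (ρ g⁻¹ v) = v := by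
  rw [← rmul, mul_inv_cancel, rone]

theorem rne (ρ : G →* Module.End k V) (g : G) {v : V} (hv : v ≠ 0) : ρ g v ≠ 0 := fun h => hv (by
  rw [← rinv ρ g v, h, map_zero])

theorem rpow (ρ : G →* Module.End k V) {g : G} {v : V} {x : k} (h : ρ g v = x • v) (n : ℕ) :
    ρ (g ^ n) v = x ^ n • v := by
  induction n with
  | zero => rw [pow_zero, pow_zero, rone, one_smul]
  | succ n ih => rw [pow_succ, rmul, h, map_smul, ih, smul_smul]; congr 1; ring

theorem eig_pow {ρ : G →* Module.End k V} {g : G} {v : V} {x : k} (hv : v ≠ 0) (h : ρ g v = x • v) {n : ℕ}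
    (hn : g ^ n = 1) : x ^ n = 1 := by
  have h1 := rpow ρ h n
  rw [hn, rone] at h1
  have h2 : (x ^ n - 1) • v = 0 := by rw [sub_smul, one_smul, ← h1, sub_self]
  rcases smul_eq_zero.1 h2 with h3 | h3
  · exact sub_eq_zero.1 h3
  · exact absurd h3 hv

theorem eig_ne_zero {ρ : G →* Module.End k V} {g : G} {v : V} {x : k} (hv : v ≠ 0) (h : ρ g v = x • v) : x ≠ 0 := by
  rintro rfl
  rw [zero_smul] at h
  exact rne ρ g hv h

theorem eig_inv {ρ : G →* Module.End k V} {g : G} {v : V} {x : k} (hv : v ≠ 0) (h : ρ g v = x • v) :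
    ρ g⁻¹ v = x⁻¹ • v := by
  have h1 := eig_ne_zero hv h
  have h2 := rinv ρ g v
  rw [h, map_smul] at h2
  rw [eq_inv_smul_iff₀ h1]
  exact h2

/-! ### counting eigenvalues -/

theorem card_le [FiniteDimensional k V] (f : Module.End k V) (E : Submodule k V) (B : Finset k)
    (h : ∀ b ∈ B, ∃ v ∈ E, v ≠ 0 ∧ f v = b • v) : B.card ≤ Module.finrank k E := by
  classical
  choose! w hw hw0 hwe using h
  have hli := Module.End.eigenvectors_linearIndependent' f (fun b : B => (b : k)) Subtype.val_injective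
    (fun b : B => w b) (fun b => ⟨Module.End.mem_eigenspace_iff.2 (hwe b b.2), hw0 b b.2⟩)
  have hli' : LinearIndependent k fun b : B => (⟨w b, hw b b.2⟩ : E) :=
    LinearIndependent.of_comp (Submodule.subtype _) hli
  have := hli'.fintype_card_le_finrank
  rwa [Fintype.card_coe] at this

theorem sum_le [FiniteDimensional k V] (f : Module.End k V) (A : Finset k) :
    ∑ α ∈ A, Module.finrank k (f.eigenspace α) ≤ Module.finrank k V := by
  classical
  have h0 := (Module.End.eigenspaces_iSupIndep f).comp (Subtype.val_injective (p := fun x => x ∈ A))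
  have h1 := LinearMap.finrank_le_finrank_of_injective h0.dfinsupp_lsum_injective
  rw [show Module.finrank k (Π₀ i : A, (f.eigenspace ∘ Subtype.val) i) =
    Module.finrank k (DirectSum A fun i => (f.eigenspace ∘ Subtype.val) i) from rfl, Module.finrank_directSum] at h1
  rw [← Finset.sum_coe_sort]
  exact h1

/-- a nontrivial eigenvalue on an invariant subspace -/
theorem exists_ne_one [IsAlgClosed k] [FiniteDimensional k V] (ρ : G →* Module.End k V) {g : G} {N : ℕ}
    (hN : (N : k) ≠ 0) (hg : g ^ N = 1) {M : Submodule k V} (hM : ∀ v ∈ M, ρ g v ∈ M) (hne : ¬ ∀ v ∈ M, ρ g v = v) :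
    ∃ x : k, x ≠ 1 ∧ ∃ v ∈ M, v ≠ 0 ∧ ρ g v = x • v := by
  set L : Submodule k V := M.map (ρ g - 1) with hL
  have hL0 : L ≠ ⊥ := by
    intro h0
    apply hne
    intro v hv
    have h1 : (ρ g - 1) v ∈ L := Submodule.mem_map_of_mem hv
    rw [h0, Submodule.mem_bot, LinearMap.sub_apply, sub_eq_zero] at h1
    exact h1
  have hLM : L ≤ M := by
    rintro _ ⟨v, hv, rfl⟩
    exact Submodule.sub_mem _ (hM v hv) hv
  have hLg : ∀ w ∈ L, ρ g w ∈ L := by
    rintro _ ⟨v, hv, rfl⟩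
    refine ⟨ρ g v, hM v hv, ?_⟩
    simp
  have : Nontrivial L := Submodule.nontrivial_iff_ne_bot.2 hL0
  obtain ⟨x, hx⟩ := Module.End.exists_eigenvalue ((ρ g).restrict hLg)
  obtain ⟨v, hv⟩ := hx.exists_hasEigenvector
  have hxv : ρ g (v : V) = x • (v : V) := congrArg Subtype.val hv.apply_eq_smul
  have hv0 : (v : V) ≠ 0 := fun h => hv.2 (Subtype.ext h)
  refine ⟨x, ?_, v, hLM v.2, hv0, hxv⟩
  rintro rfl
  rw [one_smul] at hxv
  obtain ⟨u, hu, huv⟩ := v.2
  have huv' : ρ g u = u + v := by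
    rw [← huv]; simp
  have key : ∀ n : ℕ, ρ (g ^ n) u = u + (n : k) • (v : V) := by
    intro n
    induction n with
    | zero => rw [pow_zero, rone, Nat.cast_zero, zero_smul, add_zero]
    | succ n ih =>
      have h2 : ρ (g ^ n) (v : V) = v := by
        have := rpow ρ (x := 1) (by rw [one_smul]; exact hxv) n
        rwa [one_pow, one_smul] at this
      rw [pow_succ, rmul, huv', map_add, ih, h2, Nat.cast_succ, add_smul, one_smul, add_assoc]
  have h3 := key N
  rw [hg, rone] at h3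
  have h4 : (N : k) • (v : V) = 0 := by
    have : u + (N : k) • (v : V) = u + 0 := by rw [add_zero]; exact h3.symm
    exact add_left_cancel this
  exact (smul_ne_zero hN hv0) h4

/-- **Parity**: `X ^ r = 1`, `r` odd, `X` inverted by `Y`, no fixed vector. -/
theorem even_finrank {E : Type*} [AddCommGroup E] [Module k E] [IsAlgClosed k] [FiniteDimensional k E]
    (X Y : Module.End k E) {r : ℕ} (hr : Odd r) (hr0 : (r : k) ≠ 0) (hX : X ^ r = 1) (hY : Function.Injective Y)
    (hXY : ∀ v, X (Y (X v)) = Y v) (hfix : ∀ v, X v = v → v = 0) : Even (Module.finrank k E) := by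
  classical
  have hrpos : 0 < r := hr.pos
  -- semisimple
  have hss : X.IsSemisimple := by
    refine Module.End.isSemisimple_of_squarefree_aeval_eq_zero (p := Polynomial.X ^ r - Polynomial.C 1) ?_ ?_
    · exact (Polynomial.separable_X_pow_sub_C 1 hr0 one_ne_zero).squarefree
    · simp [hX]
  have htop := hss.iSup_eigenspace_eq_top
  -- eigenvalues
  have hroot : ∀ α : k, X.eigenspace α ≠ ⊥ → α ^ r = 1 := by
    intro α hα
    obtain ⟨v, hv, hv0⟩ := (Submodule.ne_bot_iff _).1 hα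
    rw [Module.End.mem_eigenspace_iff] at hv
    have key : ∀ n : ℕ, (X ^ n) v = α ^ n • v := by
      intro n
      induction n with
      | zero => simp
      | succ n ih => rw [pow_succ, Module.End.mul_apply, hv, map_smul, ih, smul_smul]; congr 1; ring
    have h1 := key r
    rw [hX, Module.End.one_apply] at h1
    have h2 : (α ^ r - 1) • v = 0 := by rw [sub_smul, one_smul, ← h1, sub_self]
    rcases smul_eq_zero.1 h2 with h3 | h3
    · exact sub_eq_zero.1 h3
    · exact absurd h3 hv0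
  set s : Finset k := (Polynomial.X ^ r - Polynomial.C (1 : k)).roots.toFinset with hs
  have hne : (Polynomial.X ^ r - Polynomial.C (1 : k)) ≠ 0 := Polynomial.X_pow_sub_C_ne_zero hrpos 1
  have hmem : ∀ α : k, α ∈ s ↔ α ^ r = 1 := by
    intro α
    rw [hs, Multiset.mem_toFinset, Polynomial.mem_roots hne, Polynomial.IsRoot.def]
    simp [sub_eq_zero]
  -- the dimension
  have hint : DirectSum.IsInternal (fun μ : k => X.eigenspace μ) :=
    DirectSum.isInternal_submodule_of_iSupIndep_of_iSup_eq_top X.eigenspaces_iSupIndep htop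
  have hsum : Module.finrank k E = ∑ α ∈ s, Module.finrank k (X.eigenspace α) := by
    apply le_antisymm
    · have h1 : (⊤ : Submodule k E) ≤ s.sup (fun α => X.eigenspace α) := by
        rw [← htop]
        refine iSup_le fun α => ?_
        by_cases hα : X.eigenspace α = ⊥
        · rw [hα]; exact bot_le
        · exact Finset.le_sup (f := fun α => X.eigenspace α) ((hmem α).2 (hroot α hα))
      have h2 : ∀ s' : Finset k, Module.finrank k ↥(s'.sup (fun α => X.eigenspace α)) ≤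
          ∑ α ∈ s', Module.finrank k (X.eigenspace α) := by
        intro s'
        induction s' using Finset.induction_on with
        | empty => simp
        | insert a s' ha ih =>
          rw [Finset.sup_insert, Finset.sum_insert ha]
          exact (Submodule.finrank_add_le_finrank_add_finrank _ _).trans (Nat.add_le_add_left ih _)
      rw [← finrank_top k E]
      exact (Submodule.finrank_mono h1).trans (h2 s)
    · exact sum_le X s
  -- the involution
  have hd : ∀ α : k, α ^ r = 1 → Module.finrank k (X.eigenspace α) ≤ Module.finrank k (X.eigenspace α⁻¹) := by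
    intro α hα
    have hα0 : α ≠ 0 := by
      rintro rfl
      rw [zero_pow hrpos.ne'] at hα
      exact zero_ne_one hα
    have h1 : (X.eigenspace α).map Y ≤ X.eigenspace α⁻¹ := by
      rintro _ ⟨v, hv, rfl⟩
      rw [SetLike.mem_coe, Module.End.mem_eigenspace_iff] at hv
      rw [Module.End.mem_eigenspace_iff, eq_inv_smul_iff₀ hα0, ← map_smul, ← map_smul, ← hv]
      exact hXY v
    have h2 := Submodule.finrank_mono h1
    rwa [← (Submodule.equivMapOfInjective Y hY (X.eigenspace α)).finrank_eq] at h2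
  have hinv : ∀ α : k, α ^ r = 1 → (α⁻¹) ^ r = 1 := fun α hα => by rw [inv_pow, hα, inv_one]
  have hd' : ∀ α : k, α ^ r = 1 → Module.finrank k (X.eigenspace α⁻¹) = Module.finrank k (X.eigenspace α) := by
    intro α hα
    apply le_antisymm _ (hd α hα)
    have := hd α⁻¹ (hinv α hα)
    rwa [inv_inv] at this
  have h1 : Module.finrank k (X.eigenspace (1 : k)) = 0 := by
    rw [Submodule.finrank_eq_zero, Submodule.eq_bot_iff]
    intro v hv
    rw [Module.End.mem_eigenspace_iff, one_smul] at hv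
    exact hfix v hv
  have hz : ((Module.finrank k E : ℕ) : ZMod 2) = 0 := by
    rw [hsum, Nat.cast_sum]
    refine Finset.sum_involution (fun α _ => α⁻¹) ?_ ?_ ?_ ?_
    · intro α hα
      rw [hd' α ((hmem α).1 hα)]
      exact CharTwo.add_self_eq_zero _
    · intro α hα hne1 heq
      have hα1 := (hmem α).1 hα
      have hα0 : α ≠ 0 := by
        rintro rfl
        rw [zero_pow hrpos.ne'] at hα1
        exact zero_ne_one hα1
      have h2 : α ^ 2 = 1 := by
        rw [pow_two]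
        nth_rewrite 1 [← heq]
        exact inv_mul_cancel₀ hα0
      obtain ⟨m, hm⟩ := hr
      have h3 : α = 1 := by
        rw [hm, pow_succ, pow_mul, h2, one_pow, one_mul] at hα1
        exact hα1
      apply hne1
      rw [h3, h1, Nat.cast_zero]
    · intro α hα
      exact (hmem _).2 (hinv α ((hmem α).1 hα))
    · intro α hα
      exact inv_inv α
  exact (ZMod.natCast_eq_zero_iff_even).1 hz

/-! ### one side -/

/-- elements `a` of order five and `x` of order `r` in a subgroup `S` -/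
structure Side (ρ : G →* Module.End k V) (r : ℕ) (S : Subgroup G) (a h x g : G) : Prop where
  ha : a ∈ S
  hh : h ∈ S
  hx : x ∈ S
  hg : g ∈ S
  a5 : a ^ 5 = 1
  conj_a : h * a = a ^ 3 * h
  xr : x ^ r = 1
  conj_x : x * g * x = g
  triv_a : ∀ M : Submodule k V, (∀ y ∈ S, ∀ v ∈ M, ρ y v ∈ M) → (∀ v ∈ M, ρ x v = v) → ∀ v ∈ M, ρ a v = v
  triv_x : ∀ M : Submodule k V, (∀ y ∈ S, ∀ v ∈ M, ρ y v ∈ M) → (∀ v ∈ M, ρ a v = v) → ∀ v ∈ M, ρ x v = v

/-- the powers `x, x³, x⁹, x²⁷` -/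
noncomputable def O5 (x : k) : Finset k := by
  classical exact (Finset.range 4).image fun i => x ^ 3 ^ i

theorem mem_O5 {x y : k} : y ∈ O5 x ↔ ∃ i < 4, x ^ 3 ^ i = y := by
  classical
  unfold O5
  simp

theorem pow_mod {x : k} (hx : x ^ 5 = 1) (n : ℕ) : x ^ n = x ^ (n % 5) := by
  conv_lhs => rw [← Nat.div_add_mod n 5, pow_add, pow_mul, hx, one_pow, one_mul]

theorem card_O5 {x : k} (hx : x ^ 5 = 1) (h1 : x ≠ 1) : (O5 x).card = 4 := by
  classical
  have hp : IsPrimitiveRoot x 5 := by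
    have : Fact (Nat.Prime 5) := ⟨by norm_num⟩
    have := IsPrimitiveRoot.orderOf x
    rwa [orderOf_eq_prime hx h1] at this
  unfold O5
  rw [Finset.card_image_of_injOn, Finset.card_range]
  intro i hi j hj h
  rw [Finset.coe_range, Set.mem_Iio] at hi hj
  have h2 : x ^ (3 ^ i % 5) = x ^ (3 ^ j % 5) := by
    rw [← pow_mod hx, ← pow_mod hx]; exact h
  have h3 := hp.pow_inj (Nat.mod_lt _ (by norm_num)) (Nat.mod_lt _ (by norm_num)) h2
  have h4 : ∀ i j : Fin 4, 3 ^ (i : ℕ) % 5 = 3 ^ (j : ℕ) % 5 → i = j := by decide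
  have := h4 ⟨i, hi⟩ ⟨j, hj⟩ h3
  exact congrArg Fin.val this

theorem one_notMem_O5 {x : k} (hx : x ^ 5 = 1) (h1 : x ≠ 1) : (1 : k) ∉ O5 x := by
  rw [mem_O5]
  rintro ⟨i, hi, h⟩
  apply h1
  have hc : Nat.Coprime (3 ^ i) 5 := Nat.Coprime.pow_left i (by norm_num)
  have h2 : orderOf x ∣ 3 ^ i := orderOf_dvd_of_pow_eq_one h
  have h3 : orderOf x ∣ 5 := orderOf_dvd_of_pow_eq_one hx
  have h4 := Nat.dvd_gcd h2 h3
  rw [hc, Nat.dvd_one, orderOf_eq_one_iff] at h4
  exact h4

section side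

variable {ρ : G →* Module.End k V} {r : ℕ} {S : Subgroup G} {a h x g : G} (D : Side ρ r S a h x g)
include D

theorem Side.cube {E : Submodule k V} (hE : ∀ y ∈ S, ∀ v ∈ E, ρ y v ∈ E) {ψ : k}
    (hψ : ∃ v ∈ E, v ≠ 0 ∧ ρ a v = ψ • v) (i : ℕ) : ∃ v ∈ E, v ≠ 0 ∧ ρ a v = ψ ^ 3 ^ i • v := by
  induction i with
  | zero => simpa using hψ
  | succ i ih =>
    obtain ⟨v, hv, hv0, hav⟩ := ih
    refine ⟨ρ h⁻¹ v, hE _ (inv_mem D.hh) _ hv, rne ρ _ hv0, ?_⟩
    have e : a * h⁻¹ = h⁻¹ * a ^ 3 := by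
      have := D.conj_a
      calc a * h⁻¹ = h⁻¹ * (h * a) * h⁻¹ := by group
        _ = _ := by rw [this]; group
    rw [← rmul, e, rmul, rpow ρ hav, map_smul, ← pow_mul, ← pow_succ]

variable [FiniteDimensional k V] {E : Submodule k V} (hE : ∀ y ∈ S, ∀ v ∈ E, ρ y v ∈ E) {ψ : k} (hψ1 : ψ ≠ 1)
  (hψ : ∃ v ∈ E, v ≠ 0 ∧ ρ a v = ψ • v)
include hE hψ1 hψ

theorem Side.four_le : 4 ≤ Module.finrank k E := by
  obtain ⟨v, hv, hv0, hav⟩ := hψ
  have h5 : ψ ^ 5 = 1 := eig_pow hv0 hav D.a5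
  rw [← card_O5 h5 hψ1]
  refine card_le (ρ a) E _ fun b hb => ?_
  obtain ⟨i, -, rfl⟩ := mem_O5.1 hb
  exact D.cube hE ⟨v, hv, hv0, hav⟩ i

theorem Side.five_le (h1 : ∃ v ∈ E, v ≠ 0 ∧ ρ a v = v) : 5 ≤ Module.finrank k E := by
  classical
  obtain ⟨v, hv, hv0, hav⟩ := hψ
  have h5 : ψ ^ 5 = 1 := eig_pow hv0 hav D.a5
  have hc : (insert 1 (O5 ψ)).card = 5 := by
    rw [Finset.card_insert_of_notMem (one_notMem_O5 h5 hψ1), card_O5 h5 hψ1]
  rw [← hc]
  refine card_le (ρ a) E _ fun b hb => ?_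
  rcases Finset.mem_insert.1 hb with rfl | hb
  · obtain ⟨w, hw, hw0, haw⟩ := h1
    exact ⟨w, hw, hw0, by rw [one_smul]; exact haw⟩
  · obtain ⟨i, -, rfl⟩ := mem_O5.1 hb
    exact D.cube hE ⟨v, hv, hv0, hav⟩ i

end side

/-- `x` without fixed vectors, `a` with a fixed vector -/
theorem Side.six_le [IsAlgClosed k] [FiniteDimensional k V] {ρ : G →* Module.End k V} {r : ℕ} {S : Subgroup G}
    {a h x g : G} (D : Side ρ r S a h x g) (hr : Odd r) (hr0 : (r : k) ≠ 0) (h50 : (5 : k) ≠ 0) {E : Submodule k V}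
    (hE : ∀ y ∈ S, ∀ v ∈ E, ρ y v ∈ E) (hfix : ∀ v ∈ E, ρ x v = v → v = 0) (h1 : ∃ v ∈ E, v ≠ 0 ∧ ρ a v = v) :
    6 ≤ Module.finrank k E := by
  have hne : ¬ ∀ v ∈ E, ρ a v = v := by
    intro hall
    obtain ⟨v, hv, hv0, -⟩ := h1
    exact hv0 (hfix v hv (D.triv_x E hE hall v hv))
  obtain ⟨ψ, hψ1, hψ⟩ := exists_ne_one ρ (N := 5) (by exact_mod_cast h50) D.a5 (hE a D.ha) hne
  have h5 := D.five_le hE hψ1 hψ h1
  have hev : Even (Module.finrank k E) := by
    have hXr : ∀ v : E, ((ρ x).restrict (hE x D.hx)) v = ⟨ρ x v, hE x D.hx v v.2⟩ := fun v => rfl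
    refine even_finrank ((ρ x).restrict (hE x D.hx)) ((ρ g).restrict (hE g D.hg)) hr hr0 ?_ ?_ ?_ ?_
    · have key : ∀ n : ℕ, ∀ v : E, ((((ρ x).restrict (hE x D.hx)) ^ n) v : V) = ρ (x ^ n) v := by
        intro n
        induction n with
        | zero => intro v; rw [pow_zero, pow_zero, rone]; rfl
        | succ n ih =>
          intro v
          rw [pow_succ, Module.End.mul_apply, ih, pow_succ, rmul]
          rfl
      ext v
      rw [key, D.xr, rone]
      rfl
    · intro v w hvw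
      have h2 : ρ g (v : V) = ρ g (w : V) := congrArg Subtype.val hvw
      apply Subtype.ext
      rw [← rinv ρ g (v : V), h2, rinv]
    · intro v
      apply Subtype.ext
      show ρ x (ρ g (ρ x (v : V))) = ρ g (v : V)
      rw [← rmul, ← rmul]
      rw [D.conj_x]
    · intro v hv
      exact Subtype.ext (hfix v v.2 (congrArg Subtype.val hv))
  obtain ⟨m, hm⟩ := hev
  omega

/-! ### the semilinear map -/

/-- a `q`-semilinear map commuting with `G` -/
structure Semi (ρ : G →* Module.End k V) (q : ℕ) (s : V → V) : Prop where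
  rho : ∀ g v, s (ρ g v) = ρ g (s v)
  smul : ∀ (c : k) v, s (c • v) = c ^ q • s v
  ne : ∀ v, v ≠ 0 → s v ≠ 0

theorem Semi.iter {ρ : G →* Module.End k V} {q : ℕ} {s : V → V} (hs : Semi ρ q s) (i : ℕ) {v : V} {g : G} {x : k}
    (h : ρ g v = x • v) : ρ g (s^[i] v) = x ^ q ^ i • s^[i] v := by
  induction i with
  | zero => simpa using h
  | succ i ih =>
    rw [Function.iterate_succ_apply', ← hs.rho, ih, hs.smul, pow_succ, pow_mul]

theorem Semi.iter_ne {ρ : G →* Module.End k V} {q : ℕ} {s : V → V} (hs : Semi ρ q s) (i : ℕ) {v : V} (h : v ≠ 0) :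
    s^[i] v ≠ 0 := by
  induction i with
  | zero => simpa using h
  | succ i ih =>
    rw [Function.iterate_succ_apply']
    exact hs.ne _ ih

/-- the orbit of `x` under `x ↦ x ^ q` -/
noncomputable def Or (q t : ℕ) (x : k) : Finset k := by
  classical exact (Finset.range t).image fun i => x ^ q ^ i

theorem mem_Or {q t : ℕ} {x y : k} : y ∈ Or q t x ↔ ∃ i < t, x ^ q ^ i = y := by
  classical
  unfold Or
  simp

theorem pow_ne_one {q : ℕ} (hq1 : ∀ α : k, α ^ q = 1 → α = 1) {x : k} (hx : x ≠ 1) (i : ℕ) : x ^ q ^ i ≠ 1 := by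
  induction i with
  | zero => simpa using hx
  | succ i ih =>
    intro h
    rw [pow_succ, pow_mul] at h
    exact ih (hq1 _ h)

theorem inv_eig {ρ : G →* Module.End k V} {S : Subgroup G} {z : G} (hc : ∀ y ∈ S, y * z = z * y) (α : k) :
    ∀ y ∈ S, ∀ v ∈ (ρ z).eigenspace α, ρ y v ∈ (ρ z).eigenspace α := by
  intro y hy v hv
  rw [Module.End.mem_eigenspace_iff] at hv ⊢
  rw [← rmul, ← hc y hy, rmul, hv, map_smul]

/-- **The bound.** -/
theorem six_mul_le [IsAlgClosed k] [FiniteDimensional k V] {ρ : G →* Module.End k V} {r q t : ℕ} (hr : Odd r)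
    (hr0 : (r : k) ≠ 0) (h50 : (5 : k) ≠ 0) {S₁ S₂ : Subgroup G} {a₁ h₁ x₁ g₁ a₂ h₂ x₂ g₂ : G}
    (D₁ : Side ρ r S₁ a₁ h₁ x₁ g₁) (D₂ : Side ρ r S₂ a₂ h₂ x₂ g₂) (comm : ∀ y ∈ S₁, ∀ z ∈ S₂, y * z = z * y)
    {s : V → V} (hs : Semi ρ q s) (hq1 : ∀ α : k, α ^ q = 1 → α = 1)
    (ht : ∀ α : k, α ^ r = 1 → α ≠ 1 → (Or q t α).card = t)
    (e11 : ∃ v : V, v ≠ 0 ∧ ∃ χ ψ : k, χ ≠ 1 ∧ ψ ≠ 1 ∧ ρ a₁ v = χ • v ∧ ρ a₂ v = ψ • v)
    (e01 : ∃ v : V, v ≠ 0 ∧ ∃ ψ : k, ψ ≠ 1 ∧ ρ a₁ v = v ∧ ρ a₂ v = ψ • v)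
    (e10 : ∃ v : V, v ≠ 0 ∧ ∃ χ : k, χ ≠ 1 ∧ ρ a₁ v = χ • v ∧ ρ a₂ v = v) : 6 * t ≤ Module.finrank k V := by
  classical
  have comm' : ∀ y ∈ S₂, ∀ z ∈ S₁, y * z = z * y := fun y hy z hz => (comm z hz y hy).symm
  by_cases P1 : ∀ v, ρ x₁ v = v → ρ x₂ v = v
  · -- `x₁` has no fixed vectors on the eigenspaces of `x₂`
    obtain ⟨w, hw0, ψ, hψ, haw, hbw⟩ := e01
    have hM := inv_eig (ρ := ρ) (S := S₂) (z := a₁) (fun y hy => comm' y hy a₁ D₁.ha) 1
    have hne : ¬ ∀ v ∈ (ρ a₁).eigenspace 1, ρ x₂ v = v := by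
      intro hall
      have h1 := D₂.triv_a _ hM hall w (by rw [Module.End.mem_eigenspace_iff, one_smul]; exact haw)
      rw [hbw] at h1
      apply hψ
      have h2 : (ψ - 1) • w = 0 := by rw [sub_smul, one_smul, h1, sub_self]
      rcases smul_eq_zero.1 h2 with h3 | h3
      · exact sub_eq_zero.1 h3
      · exact absurd h3 hw0
    obtain ⟨β, hβ, u, hu, hu0, hxu⟩ := exists_ne_one ρ hr0 D₂.xr (hM x₂ D₂.hx) hne
    rw [Module.End.mem_eigenspace_iff] at hu
    have h6 : ∀ α ∈ Or q t β, 6 ≤ Module.finrank k ((ρ x₂).eigenspace α) := by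
      intro α hα
      obtain ⟨i, -, rfl⟩ := mem_Or.1 hα
      refine D₁.six_le hr hr0 h50 (inv_eig (fun y hy => comm y hy x₂ D₂.hx) _) ?_
        ⟨s^[i] u, ?_, hs.iter_ne i hu0, ?_⟩
      · intro v hv hv1
        have h2 := P1 v hv1
        rw [Module.End.mem_eigenspace_iff, h2] at hv
        have h3 : (β ^ q ^ i - 1) • v = 0 := by rw [sub_smul, one_smul, ← hv, sub_self]
        rcases smul_eq_zero.1 h3 with h4 | h4
        · exact absurd (sub_eq_zero.1 h4) (pow_ne_one hq1 hβ i)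
        · exact h4
      · rw [Module.End.mem_eigenspace_iff]
        exact hs.iter i hxu
      · have := hs.iter i hu
        rwa [one_pow, one_smul] at this
    have h7 := Finset.card_nsmul_le_sum (Or q t β) (fun α => Module.finrank k ((ρ x₂).eigenspace α)) 6 h6
    rw [ht β (eig_pow hu0 hxu D₂.xr) hβ, smul_eq_mul] at h7
    have h8 := sum_le (ρ x₂) (Or q t β)
    omega
  · push Not at P1
    obtain ⟨w, hw1, hw2⟩ := P1
    -- the fixed vectors of `x₁`
    have h0 : t ≤ Module.finrank k ((ρ x₁).eigenspace 1) := by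
      have hM := inv_eig (ρ := ρ) (S := S₂) (z := x₁) (fun y hy => comm' y hy x₁ D₁.hx) 1
      obtain ⟨β, hβ, u, hu, hu0, hxu⟩ := exists_ne_one ρ hr0 D₂.xr (hM x₂ D₂.hx) (fun hall => hw2 (hall w (by
        rw [Module.End.mem_eigenspace_iff, one_smul]; exact hw1)))
      rw [← ht β (eig_pow hu0 hxu D₂.xr) hβ]
      refine card_le (ρ x₂) _ _ fun b hb => ?_
      obtain ⟨i, -, rfl⟩ := mem_Or.1 hb
      rw [Module.End.mem_eigenspace_iff] at hu
      refine ⟨s^[i] u, ?_, hs.iter_ne i hu0, hs.iter i hxu⟩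
      rw [Module.End.mem_eigenspace_iff]
      have := hs.iter i hu
      rwa [one_pow] at this
    -- eigenvalues of `x₁` on the eigenspaces of `a₂`
    have key : ∀ ψ : k, (∃ v : V, v ≠ 0 ∧ ∃ χ : k, χ ≠ 1 ∧ ρ a₁ v = χ • v ∧ ρ a₂ v = ψ • v) →
        ∃ α : k, α ≠ 1 ∧ ∃ v : V, v ≠ 0 ∧ ρ x₁ v = α • v ∧ ρ a₂ v = ψ • v := by
      rintro ψ ⟨v, hv0, χ, hχ, hav, hbv⟩
      have hM := inv_eig (ρ := ρ) (S := S₁) (z := a₂) (fun y hy => comm y hy a₂ D₂.ha) ψ
      have hne : ¬ ∀ v ∈ (ρ a₂).eigenspace ψ, ρ x₁ v = v := by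
        intro hall
        have h1 := D₁.triv_a _ hM hall v (by rw [Module.End.mem_eigenspace_iff]; exact hbv)
        rw [hav] at h1
        apply hχ
        have h2 : (χ - 1) • v = 0 := by rw [sub_smul, one_smul, h1, sub_self]
        rcases smul_eq_zero.1 h2 with h3 | h3
        · exact sub_eq_zero.1 h3
        · exact absurd h3 hv0
      obtain ⟨α, hα, u, hu, hu0, hxu⟩ := exists_ne_one ρ hr0 D₁.xr (hM x₁ D₁.hx) hne
      rw [Module.End.mem_eigenspace_iff] at hu
      exact ⟨α, hα, u, hu0, hxu, hu⟩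
    obtain ⟨v, hv0, χ, ψ, hχ, hψ, hav, hbv⟩ := e11
    obtain ⟨α₀, hα₀, u₀, hu₀, hxu₀, hau₀⟩ := key ψ ⟨v, hv0, χ, hχ, hav, hbv⟩
    obtain ⟨v', hv0', χ', hχ', hav', hbv'⟩ := e10
    obtain ⟨α', hα', u', hu', hxu', hau'⟩ := key 1 ⟨v', hv0', χ', hχ', hav', by rw [one_smul]; exact hbv'⟩
    set A := Or q t α₀ with hA
    set A' := Or q t α' with hA'
    have cA : A.card = t := ht α₀ (eig_pow hu₀ hxu₀ D₁.xr) hα₀
    have cA' : A'.card = t := ht α' (eig_pow hu' hxu' D₁.xr) hα'
    have hcase : ∀ α : k, (if α ∈ A then 4 else 0) + (if α ∈ A' then 1 else 0) ≤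
        Module.finrank k ((ρ x₁).eigenspace α) := by
      intro α
      have hE := inv_eig (ρ := ρ) (S := S₂) (z := x₁) (fun y hy => comm' y hy x₁ D₁.hx) α
      have f1 : α ∈ A → ∃ ψ' : k, ψ' ≠ 1 ∧ ∃ v ∈ (ρ x₁).eigenspace α, v ≠ 0 ∧ ρ a₂ v = ψ' • v := by
        intro hα
        obtain ⟨i, -, rfl⟩ := mem_Or.1 hα
        refine ⟨ψ ^ q ^ i, pow_ne_one hq1 hψ i, s^[i] u₀, ?_, hs.iter_ne i hu₀, hs.iter i hau₀⟩
        rw [Module.End.mem_eigenspace_iff]
        exact hs.iter i hxu₀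
      have f2 : α ∈ A' → ∃ v ∈ (ρ x₁).eigenspace α, v ≠ 0 ∧ ρ a₂ v = v := by
        intro hα
        obtain ⟨i, -, rfl⟩ := mem_Or.1 hα
        refine ⟨s^[i] u', ?_, hs.iter_ne i hu', ?_⟩
        · rw [Module.End.mem_eigenspace_iff]
          exact hs.iter i hxu'
        · have := hs.iter i hau'
          rwa [one_pow, one_smul] at this
      by_cases c1 : α ∈ A
      · obtain ⟨ψ', hψ', hv⟩ := f1 c1
        by_cases c2 : α ∈ A'
        · rw [if_pos c1, if_pos c2]
          exact D₂.five_le hE hψ' hv (f2 c2)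
        · rw [if_pos c1, if_neg c2]
          exact D₂.four_le hE hψ' hv
      · by_cases c2 : α ∈ A'
        · rw [if_neg c1, if_pos c2]
          obtain ⟨v, hv, hv0, -⟩ := f2 c2
          have : Nontrivial ((ρ x₁).eigenspace α) := ⟨⟨⟨v, hv⟩, 0, fun h => hv0 (congrArg Subtype.val h)⟩⟩
          have := Module.finrank_pos (R := k) (M := (ρ x₁).eigenspace α)
          omega
        · rw [if_neg c1, if_neg c2]
          exact Nat.zero_le _
    have h1 : (1 : k) ∉ A ∪ A' := by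
      rw [Finset.mem_union, not_or]
      constructor
      · intro hm
        obtain ⟨i, -, h⟩ := mem_Or.1 hm
        exact pow_ne_one hq1 hα₀ i h
      · intro hm
        obtain ⟨i, -, h⟩ := mem_Or.1 hm
        exact pow_ne_one hq1 hα' i h
    have h2 := sum_le (ρ x₁) (insert 1 (A ∪ A'))
    rw [Finset.sum_insert h1] at h2
    have h3 : ∑ α ∈ A ∪ A', ((if α ∈ A then 4 else 0) + (if α ∈ A' then 1 else 0)) ≤
        ∑ α ∈ A ∪ A', Module.finrank k ((ρ x₁).eigenspace α) := Finset.sum_le_sum fun α _ => hcase α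
    have h4 : ∑ α ∈ A ∪ A', ((if α ∈ A then 4 else 0) + (if α ∈ A' then 1 else 0)) = 4 * t + t := by
      rw [Finset.sum_add_distrib, Finset.sum_ite_mem, Finset.sum_ite_mem, Finset.union_inter_cancel_left,
        Finset.union_inter_cancel_right, Finset.sum_const, Finset.sum_const, cA, cA', smul_eq_mul, smul_eq_mul, mul_one,
        mul_comm]
    omega

end Cfsg.Agent.H315.TwF
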