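import Cfsg.Agent.H315.TwF.Chars
import Cfsg.Agent.H84.CoreTwFB
import Cfsg.Agent.H147.SzReal

/-!
# `Sz(q) × Sz(q)` in `²F₄(q)` and the lower bound for the dimension (helper315)
-/

set_option autoImplicit false
set_option linter.unusedSectionVars false

namespace Cfsg.Agent.H315.TwF

open Cfsg Cfsg.Lie
open Cfsg.Agent.H927.LDTwF4 (Rels same_eq w01 w10 wo wA wB wga wgb wc chk1 chk2 chk3 chk4 chk5 chk6 chk7 chk8 chk9
  ge01 ge10 go1 wA_ne)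
open Cfsg.Agent.ChevalleyStructure.TwF4.Rel Cfsg.Agent.ChevalleyStructure.TwF4.RankOne Cfsg.Agent.ChevalleyStructure.TwF4.TwistedFix Cfsg.Agent.KFacts.TwF4 Cfsg.Agent.KFacts.TwF4.Inst
open Cfsg.Agent.KFacts.TwF4.Irr Cfsg.Agent.CpAutTwF.Cent Cfsg.Agent.H496.TwFRad

/-! ### Suzuki groups -/

section suz

variable {P : Type*} [Group P]

theorem suz_simple (h : Lie.IsoSuzuki P) : IsSimpleGroup P := by
  obtain ⟨F, _, _, m, hm, hF, ⟨f⟩⟩ := h
  have := Cfsg.Agent.S1162.result hm hF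
  exact f.isSimpleGroup

theorem suz_real (h : Lie.IsoSuzuki P) {x : P} {r : ℕ} (hr : Odd r) (hxr : x ^ r = 1) : ∃ g : P, x * g * x = g := by
  obtain ⟨F, _, _, m, hm, hF, ⟨f⟩⟩ := h
  by_cases hx1 : x = 1
  · exact ⟨1, by rw [hx1]; group⟩
  have hy1 : f x ≠ 1 := fun h => hx1 (f.injective (h.trans (map_one f).symm))
  rcases Cfsg.Agent.H147.Sz.real hm hF (f x) hy1 with ⟨-, i, -, hi, h⟩ | ⟨a, b, h⟩
  · refine ⟨f.symm i, f.injective ?_⟩
    rw [map_mul, map_mul, MulEquiv.apply_symm_apply]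
    have hii : i⁻¹ = i := inv_eq_of_mul_eq_one_left hi
    have h2 : i * f x = (f x)⁻¹ * i := by
      calc i * f x = i * f x * i * i⁻¹ := by group
        _ = (f x)⁻¹ * i := by rw [h, hii]
    rw [mul_assoc, h2]; group
  · exfalso
    obtain ⟨c, hc⟩ := isConj_iff.1 h
    have h4 : (LieRecognition.SzMatrix.good hF).u a b ^ 4 = 1 := by
      rw [Cfsg.Agent.H84.SzLevi.four_eq, Cfsg.Agent.H147.Sz.u_sq, Cfsg.Agent.H147.Sz.u_sq, zero_mul,
        (LieRecognition.SzMatrix.good hF).u_zero]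
    rw [← hc, conj_pow] at h4
    have h5 : (f x) ^ 4 = 1 := by
      have e : (f x) ^ 4 = c⁻¹ * (c * (f x) ^ 4 * c⁻¹) * c := by group
      rw [e, h4]; group
    have h6 : (f x) ^ r = 1 := by rw [← map_pow, hxr, map_one]
    have h7 := Nat.dvd_gcd (orderOf_dvd_of_pow_eq_one h5) (orderOf_dvd_of_pow_eq_one h6)
    have h8 : Nat.gcd 4 r = 1 := by
      have : Nat.Coprime (2 ^ 2) r := Nat.Coprime.pow_left 2 (Nat.coprime_two_left.2 hr)
      exact this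
    rw [h8, Nat.dvd_one, orderOf_eq_one_iff] at h7
    exact hy1 h7

end suz

theorem exists_side {k V G : Type*} [Field k] [AddCommGroup V] [Module k V] [Group G] (ρ : G →* Module.End k V)
    {S : Subgroup G} (hI : Lie.IsoSuzuki ↥S) {a h x : G} (ha : a ∈ S) (ha1 : a ≠ 1) (hh : h ∈ S) (a5 : a ^ 5 = 1)
    (hc : h * a = a ^ 3 * h) (hx : x ∈ S) (hx1 : x ≠ 1) {r : ℕ} (hr : Odd r) (hxr : x ^ r = 1) :
    ∃ g, Side ρ r S a h x g := by
  obtain ⟨g, hg⟩ := suz_real hI (x := ⟨x, hx⟩) hr (Subtype.ext hxr)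
  refine ⟨g, ha, hh, hx, g.2, a5, hc, hxr, congrArg Subtype.val hg, ?_, ?_⟩
  · exact fun M hM h1 => triv (suz_simple hI) hx hx1 hM h1 ha
  · exact fun M hM h1 => triv (suz_simple hI) ha ha1 hM h1 hx

/-! ### the elements of order five -/

section rels

variable {K : Type*} [Field K] [CharP K 2] [Fintype K] {φ : K →+* K} {m : ℕ}

theorem exists_rels_mem (hK : Fintype.card K = 2 ^ (2 * m + 1))
    (hφ : Rln φ (2 ^ m)) :
    ∃ A B ga gb c : ↥(twistedF4 K (2 ^ m)), Rels A B ga gb c ∧ A ≠ 1 ∧ A ∈ L4 (full hK hφ) ∧ ga ∈ L4 (full hK hφ) ∧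
      B ∈ M4 (full hK hφ) ∧ gb ∈ M4 (full hK hφ) := by
  set S := full hK hφ with hS
  have he : ∀ a p u, S.e a p u = re hφ a p u := fun a p u => rfl
  obtain ⟨A, hA, hA4⟩ : ∃ g : ↥(twistedF4 K (2 ^ m)), (g : GL chevF4.Idx K) = W1 K wA ∧ g ∈ L4 S := by
    refine ⟨re hφ 4 0 1 * re hφ 0 0 1, ?_, ?_⟩
    · change ge φ 4 0 1 * ge φ 0 0 1 = _
      rw [ge01, ge01, ← W1_append]
      rfl
    · exact mul_mem (X8_L4 S (S.mX8 0 1)) (X0_L4 S (S.e_mem 0 0 1))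
  have m6 : ∀ p u, re hφ 6 p u ∈ M4 S := fun p u =>
    le_sup_right (a := S.XZ 4) ((S.mem_XZ_even 6 _).2 ⟨p, u, rfl⟩)
  have m2 : ∀ p u, re hφ 2 p u ∈ M4 S := fun p u => le_sup_left (a := S.XZ 4) (S.mX4 p u)
  obtain ⟨B, hB, hB4⟩ : ∃ g : ↥(twistedF4 K (2 ^ m)), (g : GL chevF4.Idx K) = W1 K wB ∧ g ∈ M4 S := by
    refine ⟨re hφ 6 0 1 * re hφ 2 0 1, ?_, ?_⟩
    · change ge φ 6 0 1 * ge φ 2 0 1 = _
      rw [ge01, ge01, ← W1_append]
      rfl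
    · exact mul_mem (m6 0 1) (m2 0 1)
  obtain ⟨ga, ha, ha4⟩ : ∃ g : ↥(twistedF4 K (2 ^ m)), (g : GL chevF4.Idx K) = W1 K wga ∧ g ∈ L4 S :=
    ⟨re hφ 4 1 0, ge10 φ 4, X8_L4 S (S.mX8 1 0)⟩
  obtain ⟨gb, hb, hb4⟩ : ∃ g : ↥(twistedF4 K (2 ^ m)), (g : GL chevF4.Idx K) = W1 K wgb ∧ g ∈ M4 S :=
    ⟨re hφ 6 1 0, ge10 φ 6, m6 1 0⟩
  obtain ⟨c, hc⟩ : ∃ g : ↥(twistedF4 K (2 ^ m)), (g : GL chevF4.Idx K) = W1 K wc := by
    refine ⟨re hφ 5 1 0 * ro hφ 1 1 * ro hφ 0 1 * re hφ 5 1 0 * re hφ 1 1 0, ?_⟩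
    change ge φ 5 1 0 * go φ 1 1 * go φ 0 1 * ge φ 5 1 0 * ge φ 1 1 0 = _
    rw [ge10, go1, go1, ge10, ← W1_append, ← W1_append, ← W1_append, ← W1_append]
    rfl
  refine ⟨A, B, ga, gb, c, ⟨?_, ?_, ?_, ?_, ?_, ?_, ?_, ?_, ?_⟩, ?_, hA4, ha4, hB4, hb4⟩
  · apply Subtype.ext
    simp only [Subgroup.coe_mul, Subgroup.coe_one, hA, ← W1_append]
    exact same_eq chk1
  · apply Subtype.ext
    simp only [Subgroup.coe_mul, Subgroup.coe_one, hB, ← W1_append]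
    exact same_eq chk9
  · apply Subtype.ext
    simp only [Subgroup.coe_mul, hA, hB, ← W1_append]
    exact same_eq chk2
  · apply Subtype.ext
    simp only [Subgroup.coe_mul, hA, ha, ← W1_append]
    exact same_eq chk3
  · apply Subtype.ext
    simp only [Subgroup.coe_mul, hB, hb, ← W1_append]
    exact same_eq chk4
  · apply Subtype.ext
    simp only [Subgroup.coe_mul, hB, ha, ← W1_append]
    exact same_eq chk5
  · apply Subtype.ext
    simp only [Subgroup.coe_mul, hA, hb, ← W1_append]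
    exact same_eq chk6
  · apply Subtype.ext
    simp only [Subgroup.coe_mul, hA, hB, hc, ← W1_append]
    exact same_eq chk7
  · apply Subtype.ext
    simp only [Subgroup.coe_mul, hA, hB, hc, ← W1_append]
    exact same_eq chk8
  · intro h
    rw [h] at hA
    exact wA_ne hA.symm

end rels

/-! ### the bound -/

section bound

variable {K : Type*} [Field K] [Fintype K] {m : ℕ}

/-- **The bound.** `r` a prime divisor of `|K| ^ 2 + 1` -/
theorem rep_bound {k V : Type*} [Field k] [IsAlgClosed k] (h5 : (5 : k) ≠ 0) [AddCommGroup V] [Module k V]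
    [FiniteDimensional k V] (hm : 1 ≤ m) (hK : Fintype.card K = 2 ^ (2 * m + 1))
    (ρ : ↥(twistedF4 K (2 ^ m)) →* Module.End k V) (hρ : ∀ g, ρ g = 1 → g = 1) {r : ℕ} (hr : r.Prime) (hr2 : r ≠ 2)
    (hdvd : r ∣ Nat.card K * Nat.card K + 1) (hr0 : (r : k) ≠ 0) {q t : ℕ} {s : V → V} (hs : Semi ρ q s)
    (hq1 : ∀ α : k, α ^ q = 1 → α = 1) (ht : ∀ α : k, α ^ r = 1 → α ≠ 1 → (Or q t α).card = t) :
    6 * t ≤ Module.finrank k V := by
  have := Cfsg.Agent.ChevalleyStructure.TwF4.Twisted.charP_two hK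
  have hfr : Fact r.Prime := ⟨hr⟩
  obtain ⟨φ, hφ⟩ := exists_rln hK
  obtain ⟨A, B, ga, gb, c, h, hA1, hA, hga, hB, hgb⟩ := exists_rels_mem hK hφ
  obtain ⟨S, hS⟩ : ∃ S : Full φ ↥(twistedF4 K (2 ^ m)), S = full hK hφ := ⟨_, rfl⟩
  rw [← hS] at hA hga hB hgb
  have hK' : Nat.card K = 2 ^ (2 * m + 1) := by rw [Nat.card_eq_fintype_card, hK]
  have hI : Lie.IsoSuzuki ↥(L4 S) := by
    have h1 := Cfsg.Agent.H84.GaussTwF4.LL_iso S (k := 2 * m + 1) (by omega) hK'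
    rw [Cfsg.Agent.H84.GaussTwF4.LJ_eq] at h1
    have h2 : H84.GaussTwF4.LL S = L4 S := sup_comm _ _
    rwa [h2] at h1
  have e : ↥(L4 S) ≃* ↥(M4 S) := ((L4 S).equivMapOfInjective (S.ck 2).toMonoidHom (S.ck 2).injective).trans
    (MulEquiv.subgroupCongr (map_L4 S))
  have hI' : Lie.IsoSuzuki ↥(M4 S) := by
    obtain ⟨F, i1, i2, n, hn, hF, ⟨f⟩⟩ := hI
    exact ⟨F, i1, i2, n, hn, hF, ⟨e.symm.trans f⟩⟩
  have hFu : ∃ d : Kˣ, d ≠ 1 := by
    have h1 : 1 < Nat.card Kˣ := by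
      rw [Nat.card_units, hK']
      have : 2 ^ 3 ≤ 2 ^ (2 * m + 1) := Nat.pow_le_pow_right (by norm_num) (by omega)
      omega
    have h2 : Nontrivial Kˣ := Finite.one_lt_card_iff_nontrivial.1 h1
    exact exists_ne 1
  have hdL : r ∣ Nat.card (L4 S) := by
    rw [Levi.card_L4 S hFu]
    exact Dvd.dvd.mul_left hdvd _
  obtain ⟨x₁, hx₁⟩ := exists_prime_orderOf_dvd_card' r hdL
  have hdM : r ∣ Nat.card (M4 S) := by rw [← Nat.card_congr e.toEquiv]; exact hdL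
  obtain ⟨x₂, hx₂⟩ := exists_prime_orderOf_dvd_card' r hdM
  have hodd : Odd r := hr.odd_of_ne_two hr2
  have key : ∀ {H : Subgroup ↥(twistedF4 K (2 ^ m))} (x : H), orderOf x = r → (x : ↥(twistedF4 K (2 ^ m))) ≠ 1 ∧
      (x : ↥(twistedF4 K (2 ^ m))) ^ r = 1 := by
    intro H x hx
    have h1 : x ^ r = 1 := by rw [← hx]; exact pow_orderOf_eq_one x
    refine ⟨?_, congrArg Subtype.val h1⟩
    intro h2
    have h3 : x = 1 := Subtype.ext h2
    rw [h3, orderOf_one] at hx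
    exact hr.one_lt.ne hx
  obtain ⟨hx₁1, hx₁r⟩ := key x₁ hx₁
  obtain ⟨hx₂1, hx₂r⟩ := key x₂ hx₂
  have hB1 : B ≠ 1 := by
    intro hB1
    have h1 := h.cB
    rw [hB1, mul_one, mul_one, mul_one] at h1
    exact hA1 (mul_eq_right.1 h1.symm)
  have cube : ∀ X : ↥(twistedF4 K (2 ^ m)), X * X * X = X ^ 3 := fun X => by
    simp only [pow_succ, pow_zero, one_mul]
  obtain ⟨g₁, D₁⟩ := exists_side ρ hI hA hA1 hga (A5 h) (by rw [← cube]; exact h.gaA) x₁.2 hx₁1 hodd hx₁r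
  obtain ⟨g₂, D₂⟩ := exists_side ρ hI' hB hB1 hgb (B5 h) (by rw [← cube]; exact h.gbB) x₂.2 hx₂1 hodd hx₂r
  obtain ⟨e11, e01, e10⟩ := chars h h5 (fun h1 => hA1 (hρ A h1))
  exact six_mul_le hodd hr0 h5 D₁ D₂ (fun y hy z hz => L4_comm_M4 S hy hz) hs hq1 ht e11 e01 e10

end bound

end Cfsg.Agent.H315.TwF
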